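/-
The right derived functor on the bounded below derived category sends distinguished triangles
to distinguished triangles (after choosing a third morphism).
-/
import Mathlib.Algebra.Homology.DerivedCategory.RightDerivedFunctorPlus
import Mathlib.Algebra.Homology.DerivedCategory.ShortExact
import Mathlib.Algebra.Homology.DerivedCategory.HomologySequence

universe w w' v v' u u'

open CategoryTheory CategoryTheory.Limits CategoryTheory.Pretriangulated

namespace Groth.Agent.RDPlus.Basic

variable {C : Type u} [Category.{v} C] [Abelian C] [HasDerivedCategory.{w} C]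

variable (C) in
/-- bounded below complexes of injectives, up to homotopy, to the bounded below derived category -/
noncomputable abbrev injToD : HomotopyCategory.Plus (InjectiveObject C) ⥤ DerivedCategory.Plus C :=
  (InjectiveObject.ι C).mapHomotopyCategoryPlus ⋙ DerivedCategory.Plus.Qh

omit [HasDerivedCategory.{w} C] in
lemma isKInjective_inj (Y : HomotopyCategory.Plus (InjectiveObject C)) :
    CochainComplex.IsKInjective ((InjectiveObject.ι C).mapHomotopyCategoryPlus.obj Y).obj.as := by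
  obtain ⟨K, rfl⟩ := HomotopyCategory.Plus.quotient_obj_surjective Y
  exact inferInstanceAs (CochainComplex.IsKInjective
      (((InjectiveObject.ι C).mapHomologicalComplex (.up ℤ)).obj K.obj))

lemma Qh_map_bijective_inj (K : HomotopyCategory.Plus C)
    (Y : HomotopyCategory.Plus (InjectiveObject C)) :
    Function.Bijective (DerivedCategory.Plus.Qh.map :
      (K ⟶ (InjectiveObject.ι C).mapHomotopyCategoryPlus.obj Y) → _) :=
  DerivedCategory.Plus.Qh_map_bijective_of_isKInjective _ _ (isKInjective_inj Y)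

instance injToD_full : (injToD C).Full where
  map_surjective {_ Y} f := by
    obtain ⟨g, hg⟩ := (Qh_map_bijective_inj _ Y).2 f
    exact ⟨(InjectiveObject.ι C).mapHomotopyCategoryPlus.preimage g,
      by simp [injToD, hg]⟩

instance injToD_faithful : (injToD C).Faithful where
  map_injective {_ Y} _ _ h :=
    (InjectiveObject.ι C).mapHomotopyCategoryPlus.map_injective
      ((Qh_map_bijective_inj _ Y).1 h)

variable [EnoughInjectives C]

/-- every distinguished triangle of `D⁺` comes from complexes of injectives -/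
lemma exists_iso_injTriangle (T : Triangle (DerivedCategory.Plus C))
    (hT : T ∈ distinguishedTriangles) :
    ∃ T₀ ∈ (distinguishedTriangles : Set (Triangle (HomotopyCategory.Plus (InjectiveObject C)))),
      Nonempty ((injToD C).mapTriangle.obj T₀ ≅ T) := by
  let e₁ := (injToD C).objObjPreimageIso T.obj₁
  let e₂ := (injToD C).objObjPreimageIso T.obj₂
  obtain ⟨f, hf⟩ := (injToD C).map_surjective (e₁.hom ≫ T.mor₁ ≫ e₂.inv)
  obtain ⟨Z, g, h, hd⟩ := distinguished_cocone_triangle f
  refine ⟨_, hd, ⟨isoTriangleOfIso₁₂ _ _ ((injToD C).map_distinguished _ hd) hT e₁ e₂ ?_⟩⟩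
  show (injToD C).map f ≫ e₂.hom = e₁.hom ≫ T.mor₁
  rw [hf]; simp

variable {D : Type u'} [Category.{v'} D] [Abelian D] [HasDerivedCategory.{w'} D]
  (F : C ⥤ D) [F.Additive]

/-- on complexes of injectives, `RF` is computed termwise -/
noncomputable def injIso :
    (InjectiveObject.ι C).mapHomotopyCategoryPlus ⋙ F.mapHomotopyCategoryPlus ⋙
      DerivedCategory.Plus.Qh ≅ injToD C ⋙ F.rightDerivedFunctorPlus :=
  NatIso.ofComponents
    (fun Y => asIso (F.rightDerivedFunctorPlusUnit.app
      ((InjectiveObject.ι C).mapHomotopyCategoryPlus.obj Y)))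
    (fun {_ _} f => F.rightDerivedFunctorPlusUnit.naturality
      ((InjectiveObject.ι C).mapHomotopyCategoryPlus.map f))

/-- `RF` of a distinguished triangle extends to a distinguished triangle. -/
theorem exists_distinguished_map (T : Triangle (DerivedCategory.Plus C))
    (hT : T ∈ distinguishedTriangles) :
    ∃ δ, Triangle.mk (F.rightDerivedFunctorPlus.map T.mor₁) (F.rightDerivedFunctorPlus.map T.mor₂) δ
      ∈ distinguishedTriangles := by
  obtain ⟨T₀, h₀, ⟨e⟩⟩ := exists_iso_injTriangle T hT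
  let H := (InjectiveObject.ι C).mapHomotopyCategoryPlus ⋙ F.mapHomotopyCategoryPlus ⋙
    (DerivedCategory.Plus.Qh : _ ⥤ DerivedCategory.Plus D)
  let R := F.rightDerivedFunctorPlus
  let a₁ := (injIso F).app T₀.obj₁ ≪≫ R.mapIso (Triangle.π₁.mapIso e)
  let a₂ := (injIso F).app T₀.obj₂ ≪≫ R.mapIso (Triangle.π₂.mapIso e)
  let a₃ := (injIso F).app T₀.obj₃ ≪≫ R.mapIso (Triangle.π₃.mapIso e)
  refine ⟨a₃.inv ≫ (H.mapTriangle.obj T₀).mor₃ ≫ (shiftFunctor _ (1 : ℤ)).map a₁.hom,
    isomorphic_distinguished _ (H.map_distinguished _ h₀) _ (Iso.symm ?_)⟩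
  refine Triangle.isoMk _ _ a₁ a₂ a₃ ?_ ?_ ?_
  · show H.map T₀.mor₁ ≫ ((injIso F).hom.app T₀.obj₂ ≫ R.map e.hom.hom₂) =
      ((injIso F).hom.app T₀.obj₁ ≫ R.map e.hom.hom₁) ≫ R.map T.mor₁
    rw [(injIso F).hom.naturality_assoc, Category.assoc]
    exact congrArg (_ ≫ ·) ((R.map_comp _ _).symm.trans
      ((congrArg R.map e.hom.comm₁).trans (R.map_comp _ _)))
  · show H.map T₀.mor₂ ≫ ((injIso F).hom.app T₀.obj₃ ≫ R.map e.hom.hom₃) =
      ((injIso F).hom.app T₀.obj₂ ≫ R.map e.hom.hom₂) ≫ R.map T.mor₂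
    rw [(injIso F).hom.naturality_assoc, Category.assoc]
    exact congrArg (_ ≫ ·) ((R.map_comp _ _).symm.trans
      ((congrArg R.map e.hom.comm₂).trans (R.map_comp _ _)))
  · exact (a₃.hom_inv_id_assoc _).symm

private lemma cancel_aux {E : Type*} [Category E] {A B B' M N : E} (a : A ⟶ B) (t : B ⟶ B')
    (s : B' ⟶ M) (i : M ⟶ N) (h : N ⟶ M) (s' : M ⟶ B')
    (ih : i ≫ h = 𝟙 M) (sh : s ≫ s' = 𝟙 B') :
    ((a ≫ t ≫ s ≫ i) ≫ h) ≫ s' = a ≫ t := by
  simp [reassoc_of% ih, sh]

omit [EnoughInjectives C] in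
/-- short exact sequences of bounded below complexes give distinguished triangles in `D⁺` -/
theorem exists_distinguished_of_shortExact {X₁ X₂ X₃ : CochainComplex.Plus C}
    (f : X₁ ⟶ X₂) (g : X₂ ⟶ X₃) {zero : f.hom ≫ g.hom = 0}
    (hS : (ShortComplex.mk f.hom g.hom zero).ShortExact) :
    ∃ δ, Triangle.mk (DerivedCategory.Plus.Q.map f) (DerivedCategory.Plus.Q.map g) δ
      ∈ distinguishedTriangles := by
  let ι := DerivedCategory.Plus.ι (C := C)
  let q := DerivedCategory.quotientCompQhIso C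
  obtain ⟨δ, hδ⟩ := ι.map_surjective (X := DerivedCategory.Plus.Q.obj X₃)
    (Y := (shiftFunctor _ (1 : ℤ)).obj (DerivedCategory.Plus.Q.obj X₁)) ((q.hom.app X₃.obj) ≫ DerivedCategory.triangleOfSESδ hS ≫
    (shiftFunctor _ (1 : ℤ)).map (q.inv.app X₁.obj) ≫ (ι.commShiftIso (1 : ℤ)).inv.app (DerivedCategory.Plus.Q.obj X₁))
  refine ⟨δ, ?_⟩
  rw [← ι.map_distinguished_iff]
  refine isomorphic_distinguished _ (DerivedCategory.triangleOfSES_distinguished hS) _ ?_
  refine Triangle.isoMk _ _ (q.app X₁.obj) (q.app X₂.obj) (q.app X₃.obj) ?_ ?_ ?_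
  · exact q.hom.naturality f.hom
  · exact q.hom.naturality g.hom
  · show (ι.map δ ≫ (ι.commShiftIso (1 : ℤ)).hom.app (DerivedCategory.Plus.Q.obj X₁)) ≫
      (shiftFunctor _ (1 : ℤ)).map (q.hom.app X₁.obj) = q.hom.app X₃.obj ≫ DerivedCategory.triangleOfSESδ hS
    rw [hδ]
    exact cancel_aux _ _ _ _ _ _ (Iso.inv_hom_id_app _ _)
      (((shiftFunctor _ (1 : ℤ)).map_comp _ _).symm.trans
        ((congrArg (shiftFunctor _ (1 : ℤ)).map (q.inv_hom_id_app _)).trans
          (CategoryTheory.Functor.map_id _ _)))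

end Groth.Agent.RDPlus.Basic
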